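import Mathlib

/-!
# Group laws on the affine and the punctured affine line over a field, through coordinates of points

`G` is a group object over a field `k`, `c` a natural injective family of coordinates
`(T ⟶ G) → Γ(T, O)` whose image is everything (affine line) or the units (punctured line).
-/

set_option autoImplicit false
universe u

open CategoryTheory CategoryTheory.Limits AlgebraicGeometry Opposite MonoidalCategory CartesianMonoidalCategory
open scoped MonObj

noncomputable section

namespace Groth.Agent.LineRigidLib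

variable {k : Type u} [Field k]

/-- The structure map on global functions. -/
def rho (T : Over (Spec (CommRingCat.of k))) : k →+* Γ(T.left, ⊤) :=
  ((Scheme.ΓSpecIso (CommRingCat.of k)).inv ≫ T.hom.appTop).hom

theorem rho_comp {T T' : Over (Spec (CommRingCat.of k))} (g : T' ⟶ T) (r : k) :
    g.left.appTop (rho T r) = rho T' r := by
  change g.left.appTop (T.hom.appTop ((Scheme.ΓSpecIso (CommRingCat.of k)).inv r)) =
    T'.hom.appTop ((Scheme.ΓSpecIso (CommRingCat.of k)).inv r)
  rw [← Over.w g, Scheme.Hom.comp_appTop]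
  rfl

variable (R : Type u) [CommRing R] [Algebra k R]

/-- `Spec R` over `Spec k`. -/
abbrev affObj : Over (Spec (CommRingCat.of k)) :=
  Over.mk (Spec.map (CommRingCat.ofHom (algebraMap k R)))

/-- Global functions on `Spec R`. -/
def ofR : R →+* Γ((affObj (k := k) R).left, ⊤) := (Scheme.ΓSpecIso (CommRingCat.of R)).inv.hom

/-- ... and back. -/
def toR : Γ((affObj (k := k) R).left, ⊤) →+* R := (Scheme.ΓSpecIso (CommRingCat.of R)).hom.hom

@[simp] theorem toR_ofR (r : R) : toR (k := k) R (ofR R r) = r :=
  ConcreteCategory.congr_hom (Scheme.ΓSpecIso (CommRingCat.of R)).inv_hom_id r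

@[simp] theorem ofR_toR (r : Γ((affObj (k := k) R).left, ⊤)) : ofR R (toR R r) = r :=
  ConcreteCategory.congr_hom (Scheme.ΓSpecIso (CommRingCat.of R)).hom_inv_id r

theorem rho_affObj (r : k) : rho (affObj (k := k) R) r = ofR R (algebraMap k R r) :=
  (ConcreteCategory.congr_hom
    (Scheme.ΓSpecIso_inv_naturality (CommRingCat.ofHom (algebraMap k R))) r).symm

theorem exists_toAff {T : Over (Spec (CommRingCat.of k))} (φ : R →+* Γ(T.left, ⊤))
    (hφ : ∀ a : k, φ (algebraMap k R a) = rho T a) :
    ∃ g : T ⟶ affObj R, ∀ r, g.left.appTop (ofR R r) = φ r := by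
  let g₀ : T.left ⟶ Spec (CommRingCat.of R) :=
    T.left.toSpecΓ ≫ Spec.map (CommRingCat.ofHom φ)
  have happ : (Scheme.ΓSpecIso (CommRingCat.of R)).inv ≫ g₀.appTop = CommRingCat.ofHom φ := by
    rw [Scheme.Hom.comp_appTop, ← Category.assoc, ← Scheme.ΓSpecIso_inv_naturality, Category.assoc,
      Scheme.toSpecΓ_appTop, Iso.inv_hom_id, Category.comp_id]
  have hw : g₀ ≫ Spec.map (CommRingCat.ofHom (algebraMap k R)) = T.hom := by
    refine ext_of_isAffine ((cancel_epi (Scheme.ΓSpecIso (CommRingCat.of k)).inv).1 ?_)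
    rw [Scheme.Hom.comp_appTop, ← Category.assoc, ← Scheme.ΓSpecIso_inv_naturality, Category.assoc, happ]
    exact CommRingCat.hom_ext (RingHom.ext hφ)
  exact ⟨Over.homMk g₀ hw, fun r => ConcreteCategory.congr_hom happ r⟩

variable {G : Over (Spec (CommRingCat.of k))} [GrpObj G]
  (c : ∀ {T : Over (Spec (CommRingCat.of k))}, (T ⟶ G) → Γ(T.left, ⊤))
  (hnat : ∀ {T T' : Over (Spec (CommRingCat.of k))} (g : T' ⟶ T) (p : T ⟶ G), c (g ≫ p) = g.left.appTop (c p))
  (hinj : ∀ {T : Over (Spec (CommRingCat.of k))}, Function.Injective (fun p : T ⟶ G => c p))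

include hnat in
theorem exists_unit_const : ∃ c0 : k, ∀ T : Over (Spec (CommRingCat.of k)), c (1 : T ⟶ G) = rho T c0 := by
  refine ⟨(Scheme.ΓSpecIso (CommRingCat.of k)).hom (c η[G]), fun T => ?_⟩
  rw [Hom.one_def, hnat]
  have hl : (toUnit T).left = T.hom := (Category.comp_id _).symm.trans (Over.w (toUnit T))
  change _ = T.hom.appTop ((Scheme.ΓSpecIso (CommRingCat.of k)).inv _)
  rw [hl]
  exact congrArg _ (ConcreteCategory.congr_hom (Scheme.ΓSpecIso (CommRingCat.of k)).hom_inv_id _).symm

section Add

open Polynomial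

variable (hsurj : ∀ {T : Over (Spec (CommRingCat.of k))} (a : Γ(T.left, ⊤)), ∃ p : T ⟶ G, c p = a)

/-- evaluation of two-variable polynomials -/
def evA {T : Over (Spec (CommRingCat.of k))} (a b : Γ(T.left, ⊤)) : Polynomial (Polynomial k) →+* Γ(T.left, ⊤) :=
  eval₂RingHom (eval₂RingHom (rho T) b) a

include hnat hinj hsurj in
/-- (Polynomial (Polynomial k)) group law on the affine line is the translate of addition. -/
theorem add_law (c0 : k) (h1 : ∀ T : Over (Spec (CommRingCat.of k)), c (1 : T ⟶ G) = rho T c0)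
    {T : Over (Spec (CommRingCat.of k))} (p q : T ⟶ G) : c (p * q) = c p + c q - rho T c0 := by
  obtain ⟨p0, hp0⟩ := hsurj (T := affObj (k := k) (Polynomial (Polynomial k))) (ofR (Polynomial (Polynomial k)) X)
  obtain ⟨q0, hq0⟩ := hsurj (T := affObj (k := k) (Polynomial (Polynomial k))) (ofR (Polynomial (Polynomial k)) (C X))
  set F : (Polynomial (Polynomial k)) := toR (Polynomial (Polynomial k)) (c (p0 * q0)) with hF
  have univ : ∀ (S : Over (Spec (CommRingCat.of k))) (p q : S ⟶ G), c (p * q) = evA (c p) (c q) F := by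
    intro S p q
    obtain ⟨g, hg⟩ := exists_toAff (Polynomial (Polynomial k)) (T := S) (evA (c p) (c q)) (fun a => by
      simp [evA, Polynomial.algebraMap_apply])
    have ep : g ≫ p0 = p := hinj (by
      change c (g ≫ p0) = c p
      rw [hnat, hp0, hg]; simp [evA])
    have eq : g ≫ q0 = q := hinj (by
      change c (g ≫ q0) = c q
      rw [hnat, hq0, hg]; simp [evA])
    calc c (p * q) = c (g ≫ (p0 * q0)) := by rw [MonObj.comp_mul, ep, eq]
      _ = evA (c p) (c q) F := by rw [hnat, ← hg F, hF, ofR_toR]
  -- evaluation at the universal object is substitution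
  have hsub : ∀ (a b : (Polynomial (Polynomial k))) (P : (Polynomial (Polynomial k))),
      toR (k := k) (Polynomial (Polynomial k)) (evA (ofR (Polynomial (Polynomial k)) a) (ofR (Polynomial (Polynomial k)) b) P) = eval₂ (eval₂RingHom ((C).comp C) b) a P := by
    intro a b P
    rw [evA, coe_eval₂RingHom, hom_eval₂, toR_ofR]
    congr 1
    refine Polynomial.ringHom_ext (fun r => ?_) ?_
    · rw [RingHom.comp_apply]; simp only [coe_eval₂RingHom, eval₂_C]; rw [rho_affObj, toR_ofR]; rfl
    · rw [RingHom.comp_apply]; simp only [coe_eval₂RingHom, eval₂_X]; rw [toR_ofR]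
  set G' : (Polynomial (Polynomial k)) := toR (Polynomial (Polynomial k)) (c (p0 * q0⁻¹))
  have hFG : F.comp G' = X := by
    have := congrArg (toR (k := k) (Polynomial (Polynomial k))) (univ _ (p0 * q0⁻¹) q0)
    rw [inv_mul_cancel_right, hp0, toR_ofR, hq0, ← ofR_toR (Polynomial (Polynomial k)) (c (p0 * q0⁻¹)), hsub] at this
    have e : eval₂RingHom ((C : Polynomial k →+* (Polynomial (Polynomial k))).comp C) (C X : (Polynomial (Polynomial k))) = C := by
      refine Polynomial.ringHom_ext (fun r => ?_) ?_ <;> simp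
    rw [e] at this
    exact this.symm
  have hdeg : F.natDegree = 1 := by
    have := congrArg natDegree hFG
    rw [natDegree_comp, natDegree_X] at this
    exact Nat.eq_one_of_mul_eq_one_right this
  have hu : IsUnit (F.coeff 1) := by
    have h := congrArg leadingCoeff hFG
    have hG : G'.natDegree ≠ 0 := fun h0 => by
      have := congrArg natDegree hFG
      rw [natDegree_comp, natDegree_X, h0, mul_zero] at this
      exact zero_ne_one this
    rw [leadingCoeff_comp hG, leadingCoeff_X, hdeg, pow_one] at h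
    rw [show F.coeff 1 = F.leadingCoeff from by rw [leadingCoeff, hdeg]]
    exact IsUnit.of_mul_eq_one _ h
  obtain ⟨α, -, hα⟩ := Polynomial.isUnit_iff.1 hu
  have hFform : F = C (C α) * X + C (F.coeff 0) := by
    conv_lhs => rw [eq_X_add_C_of_natDegree_le_one hdeg.le]
    rw [hα]
  have hx : C (C α) * X + C (C ((F.coeff 0).eval c0)) = (X : (Polynomial (Polynomial k))) := by
    have := congrArg (toR (k := k) (Polynomial (Polynomial k))) (univ _ p0 1)
    rw [mul_one, hp0, h1, rho_affObj, toR_ofR, hsub, hFform] at this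
    simp only [eval₂_add, eval₂_mul, eval₂_C, eval₂_X, coe_eval₂RingHom, Polynomial.algebraMap_apply,
      Algebra.algebraMap_self, RingHom.id_apply, RingHom.comp_apply] at this
    refine Eq.trans ?_ this.symm
    congr 1
    exact (Polynomial.hom_eval₂ (F.coeff 0) (RingHom.id k) ((C : Polynomial k →+* (Polynomial (Polynomial k))).comp C) c0)
  have hα1 : α = 1 := by
    have := congrArg (fun P : (Polynomial (Polynomial k)) => P.coeff 1) hx
    simp at this
    simpa using congrArg (fun P : Polynomial k => P.coeff 0) this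
  have hb : F.coeff 0 = X - C c0 := by
    have := congrArg (toR (k := k) (Polynomial (Polynomial k))) (univ _ 1 q0)
    rw [one_mul, hq0, h1, rho_affObj, toR_ofR, hsub, hFform, hα1] at this
    simp only [map_one, one_mul, eval₂_add, eval₂_C, eval₂_X, coe_eval₂RingHom,
      Polynomial.algebraMap_apply, Algebra.algebraMap_self, RingHom.id_apply] at this
    have e : eval₂ ((C : Polynomial k →+* (Polynomial (Polynomial k))).comp C) (C X : (Polynomial (Polynomial k))) (F.coeff 0) = C (F.coeff 0) := by
      conv_rhs => rw [← eval₂_C_X (p := F.coeff 0)]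
      rw [hom_eval₂]
    rw [e, ← map_add] at this
    exact eq_sub_of_add_eq' ((C_injective this).symm)
  rw [univ, hFform, hα1, hb]
  simp [evA]
  ring

end Add

section Mul

open LaurentPolynomial

omit [Field k] in
theorem exists_eq_C_mul_T_of_isUnit {S : Type*} [CommRing S] [IsDomain S] {f : LaurentPolynomial S}
    (hf : IsUnit f) : ∃ (a : S) (n : ℤ), IsUnit a ∧ f = C a * T n := by
  obtain ⟨g, hg⟩ := isUnit_iff_exists_inv.1 hf
  obtain ⟨n, p, hp⟩ := exists_T_pow f
  obtain ⟨m, q, hq⟩ := exists_T_pow g
  have hpq : p * q = Polynomial.X ^ (n + m) := by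
    apply Polynomial.toLaurent_injective
    rw [map_mul, hp, hq, mul_mul_mul_comm, hg, one_mul, ← T_add, map_pow, Polynomial.toLaurent_X, T_pow]
    push_cast
    rw [mul_one]
  obtain ⟨i, -, hi⟩ := (dvd_prime_pow Polynomial.prime_X _).1 ⟨q, hpq.symm⟩
  obtain ⟨w, hw⟩ := hi.symm
  obtain ⟨a, ha, hwa⟩ := Polynomial.isUnit_iff.1 w.isUnit
  refine ⟨a, (i : ℤ) - n, ha, ?_⟩
  have : f * T (n : ℤ) = C a * T (i : ℤ) := by
    rw [← hp, ← hw, ← hwa, map_mul, Polynomial.toLaurent_C, map_pow, Polynomial.toLaurent_X, T_pow, mul_one, mul_comm]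
  rw [T_sub, ← mul_assoc, ← this, mul_assoc, ← T_add, add_neg_cancel, T_zero, mul_one]

theorem unit_zpow_eq_T {S : Type*} [CommRing S] (u : (LaurentPolynomial S)ˣ)
    (hu : (u : LaurentPolynomial S) = LaurentPolynomial.T 1) (i : ℤ) :
    ((u ^ i : (LaurentPolynomial S)ˣ) : LaurentPolynomial S) = LaurentPolynomial.T i := by
  induction i using Int.induction_on with
  | zero => rw [zpow_zero, Units.val_one, T_zero]
  | succ i ih => rw [zpow_add_one, Units.val_mul, ih, hu, ← T_add]
  | pred i ih =>
    rw [zpow_sub_one, Units.val_mul, ih, T_sub]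
    congr 1
    refine Units.inv_eq_of_mul_eq_one_right ?_
    rw [hu, ← T_add, add_neg_cancel, T_zero]

variable (hunit : ∀ {T : Over (Spec (CommRingCat.of k))} (p : T ⟶ G), IsUnit (c p))
  (hsurj : ∀ {T : Over (Spec (CommRingCat.of k))} (a : Γ(T.left, ⊤)), IsUnit a → ∃ p : T ⟶ G, c p = a)

/-- evaluation of two-variable Laurent polynomials -/
def evM {T : Over (Spec (CommRingCat.of k))} (a b : (Γ(T.left, ⊤) : Type u)ˣ) :
    LaurentPolynomial (LaurentPolynomial k) →+* Γ(T.left, ⊤) :=
  eval₂ (eval₂ (rho T) b) a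

include hnat hinj hunit hsurj in
/-- (LaurentPolynomial (LaurentPolynomial k)) group law on the punctured line is the translate of multiplication. -/
theorem mul_law (c0 : k) (h1 : ∀ T : Over (Spec (CommRingCat.of k)), c (1 : T ⟶ G) = rho T c0)
    {T : Over (Spec (CommRingCat.of k))} (p q : T ⟶ G) : rho T c0 * c (p * q) = c p * c q := by
  set x : (LaurentPolynomial (LaurentPolynomial k)) := LaurentPolynomial.T 1 with hxdef
  set y : (LaurentPolynomial (LaurentPolynomial k)) := C (LaurentPolynomial.T 1) with hydef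
  have hxu : IsUnit x := isUnit_T 1
  have hyu : IsUnit y := (isUnit_T 1).map C
  obtain ⟨p0, hp0⟩ := hsurj (T := affObj (k := k) (LaurentPolynomial (LaurentPolynomial k))) (ofR (LaurentPolynomial (LaurentPolynomial k)) x) (hxu.map _)
  obtain ⟨q0, hq0⟩ := hsurj (T := affObj (k := k) (LaurentPolynomial (LaurentPolynomial k))) (ofR (LaurentPolynomial (LaurentPolynomial k)) y) (hyu.map _)
  set F : (LaurentPolynomial (LaurentPolynomial k)) := toR (LaurentPolynomial (LaurentPolynomial k)) (c (p0 * q0)) with hF
  have hev : ∀ {S : Over (Spec (CommRingCat.of k))} (a b : (Γ(S.left, ⊤) : Type u)ˣ) (r : k) (i j : ℤ),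
      evM a b (C (C r * LaurentPolynomial.T i) * LaurentPolynomial.T j) = rho S r * (b ^ i).val * (a ^ j).val := by
    intro S a b r i j
    rw [evM, eval₂_C_mul_T, eval₂_C_mul_T]
  have univ : ∀ (S : Over (Spec (CommRingCat.of k))) (p q : S ⟶ G),
      c (p * q) = evM (hunit p).unit (hunit q).unit F := by
    intro S p q
    obtain ⟨g, hg⟩ := exists_toAff (LaurentPolynomial (LaurentPolynomial k)) (T := S) (evM (hunit p).unit (hunit q).unit) (fun a => by
      have := hev (hunit p).unit (hunit q).unit a 0 0
      simp only [T_zero, mul_one, zpow_zero, Units.val_one] at this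
      rw [LaurentPolynomial.algebraMap_apply, LaurentPolynomial.algebraMap_apply, Algebra.algebraMap_self, RingHom.id_apply]
      exact this)
    have ep : g ≫ p0 = p := hinj (by
      change c (g ≫ p0) = c p
      rw [hnat, hp0, hg]
      have := hev (hunit p).unit (hunit q).unit 1 0 1
      simpa [hxdef] using this)
    have eq : g ≫ q0 = q := hinj (by
      change c (g ≫ q0) = c q
      rw [hnat, hq0, hg]
      have := hev (hunit p).unit (hunit q).unit 1 1 0
      simpa [hydef] using this)
    calc c (p * q) = c (g ≫ (p0 * q0)) := by rw [MonObj.comp_mul, ep, eq]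
      _ = evM (hunit p).unit (hunit q).unit F := by rw [hnat, ← hg F, hF, ofR_toR]
  have hc0 : c0 ≠ 0 := by
    intro h
    have := hunit (1 : affObj (k := k) (LaurentPolynomial (LaurentPolynomial k)) ⟶ G)
    rw [h1, h, map_zero] at this
    exact not_isUnit_zero (M₀ := (LaurentPolynomial (LaurentPolynomial k))) (by simpa using this.map (toR (k := k) (LaurentPolynomial (LaurentPolynomial k))))
  obtain ⟨b, m, hb, hFb⟩ := exists_eq_C_mul_T_of_isUnit (f := F) ((hunit (p0 * q0)).map _)
  obtain ⟨a, n, ha, hba⟩ := exists_eq_C_mul_T_of_isUnit hb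
  rw [hba] at hFb
  have hr : ∀ r : k, toR (k := k) (LaurentPolynomial (LaurentPolynomial k)) (rho (affObj (LaurentPolynomial (LaurentPolynomial k))) r) = C (C r) := fun r => by
    rw [rho_affObj, toR_ofR]; rfl
  -- the constant
  set gam : (Γ((affObj (k := k) (LaurentPolynomial (LaurentPolynomial k))).left, ⊤) : Type u)ˣ := (hunit (1 : affObj (k := k) (LaurentPolynomial (LaurentPolynomial k)) ⟶ G)).unit with hgam
  have hγv : ∀ i : ℤ, toR (k := k) (LaurentPolynomial (LaurentPolynomial k)) ((gam ^ i).val) = C (C (c0 ^ i)) := by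
    intro i
    have e : gam = Units.map (rho (affObj (k := k) (LaurentPolynomial (LaurentPolynomial k)))).toMonoidHom (Units.mk0 c0 hc0) :=
      Units.ext (h1 _)
    rw [e, ← map_zpow, ← hr]
    exact congrArg (fun t => toR (k := k) (LaurentPolynomial (LaurentPolynomial k)) (rho (affObj _) t))
      (Units.val_zpow_eq_zpow_val (Units.mk0 c0 hc0) i)
  have hxv : ∀ i : ℤ, toR (k := k) (LaurentPolynomial (LaurentPolynomial k)) (((hunit p0).unit ^ i).val) =
      LaurentPolynomial.T i := fun i => by
    refine Eq.trans ?_ (unit_zpow_eq_T (Units.map (toR (k := k) (LaurentPolynomial (LaurentPolynomial k))).toMonoidHom (hunit p0).unit)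
      ((congrArg _ hp0).trans (toR_ofR _ _)) i)
    rw [← map_zpow]; rfl
  have hyv : ∀ i : ℤ, toR (k := k) (LaurentPolynomial (LaurentPolynomial k)) (((hunit q0).unit ^ i).val) =
      C (LaurentPolynomial.T i) := fun i => by
    have e : Units.map (toR (k := k) (LaurentPolynomial (LaurentPolynomial k))).toMonoidHom (hunit q0).unit =
        Units.map (C : LaurentPolynomial k →+* LaurentPolynomial (LaurentPolynomial k)).toMonoidHom (isUnit_T 1).unit :=
      Units.ext ((congrArg _ hq0).trans (toR_ofR _ _))
    have h := congrArg (fun u => (u ^ i).val) e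
    simp only [← map_zpow] at h
    exact h.trans (congrArg C (unit_zpow_eq_T _ (isUnit_T 1).unit_spec i))
  have ha0 : a ≠ 0 := ha.ne_zero
  have e1 : x = C (C (a * c0 ^ n)) * LaurentPolynomial.T m := by
    have := congrArg (toR (k := k) (LaurentPolynomial (LaurentPolynomial k))) (univ _ p0 1)
    rw [mul_one, hFb, hev, map_mul, map_mul, hr, hxv, hγv] at this
    rw [hp0, toR_ofR] at this
    rw [this, map_mul, map_mul]
  have hne : ∀ r : k, r ≠ 0 → (C r : LaurentPolynomial k) ≠ 0 := fun r h => by
    intro h'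
    have := congrArg (eval₂ (RingHom.id k) 1) h'
    simp only [eval₂_C, map_zero, RingHom.id_apply] at this
    exact h this
  have hm : m = 1 := by
    have := congrArg LaurentPolynomial.degree e1
    rw [degree_C_mul_T _ _ (hne _ (mul_ne_zero ha0 (zpow_ne_zero _ hc0))), hxdef, degree_T] at this
    exact_mod_cast this.symm
  have hac : a * c0 ^ n = 1 := by
    rw [hm] at e1
    have := congrArg (eval₂ (eval₂ (RingHom.id k) 1) 1) e1
    simpa [hxdef] using this.symm
  have e2 : y = C (C (a * c0 ^ m) * LaurentPolynomial.T n) := by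
    have := congrArg (toR (k := k) (LaurentPolynomial (LaurentPolynomial k))) (univ _ 1 q0)
    rw [one_mul, hFb, hev, map_mul, map_mul, hr, hγv, hyv] at this
    rw [hq0, toR_ofR] at this
    rw [this, map_mul, map_mul, map_mul]
    ring
  have hCinj : Function.Injective (C : LaurentPolynomial k →+* (LaurentPolynomial (LaurentPolynomial k))) := fun u v h => by
    simpa using congrArg (eval₂ (RingHom.id (LaurentPolynomial k)) 1) h
  have e3 := hCinj e2
  have hn : n = 1 := by
    have := congrArg LaurentPolynomial.degree e3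
    rw [degree_C_mul_T _ _ (mul_ne_zero ha0 (zpow_ne_zero _ hc0)), degree_T] at this
    exact_mod_cast this.symm
  rw [hn, zpow_one] at hac
  rw [univ, hFb, hev, hm, hn, zpow_one, zpow_one, IsUnit.unit_spec, IsUnit.unit_spec, ← mul_assoc, ← mul_assoc,
    ← map_mul, mul_comm c0 a, hac, map_one, one_mul, mul_comm]

end Mul

end Groth.Agent.LineRigidLib
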